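import Groth.Agent.Lib.Hens.Pair
import Mathlib.RingTheory.Unramified.Field
import Mathlib.RingTheory.Unramified.Finite
import Mathlib.RingTheory.Etale.Basic
import Mathlib.FieldTheory.IsSepClosed
import Mathlib.RingTheory.Henselian

/-!
# Sections of étale algebras over strictly henselian local rings
-/

set_option autoImplicit false
set_option linter.style.haveILetI false
set_option backward.isDefEq.respectTransparency.types false

universe u

open IsLocalRing
open scoped TensorProduct

noncomputable section

namespace Groth.Agent.SplitNode14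

variable {R A : Type u} [CommRing R] [CommRing A] [Algebra R A]

/-- A residue field of an unramified algebra at a point over the closed point is the residue field. -/
theorem exists_residue [IsLocalRing R] [IsSepClosed (ResidueField R)] [Algebra.FormallyUnramified R A]
    [Algebra.EssFiniteType R A] (p : Ideal A) [p.IsPrime] (hp : p.comap (algebraMap R A) = maximalIdeal R) :
    ∃ σ : A →ₐ[R] R ⧸ maximalIdeal R, RingHom.ker σ.toRingHom = p := by
  let res : ResidueField R →+* A ⧸ p := Ideal.Quotient.lift _ (algebraMap R (A ⧸ p)) fun r hr => by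
    rw [← hp] at hr
    exact Ideal.Quotient.eq_zero_iff_mem.2 hr
  letI : Algebra (ResidueField R) (A ⧸ p) := res.toAlgebra
  haveI : IsScalarTower R (ResidueField R) (A ⧸ p) := IsScalarTower.of_algebraMap_eq fun r => rfl
  haveI : Algebra.FormallyUnramified R (A ⧸ p) :=
    Algebra.FormallyUnramified.of_surjective (Ideal.Quotient.mkₐ R p) Ideal.Quotient.mk_surjective
  haveI : Algebra.FormallyUnramified (ResidueField R) (A ⧸ p) :=
    Algebra.FormallyUnramified.of_restrictScalars R _ _
  haveI : Algebra.EssFiniteType R (A ⧸ p) := Algebra.EssFiniteType.comp R A _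
  haveI : Algebra.EssFiniteType (ResidueField R) (A ⧸ p) := Algebra.EssFiniteType.of_comp R _ _
  haveI := Module.Free.of_divisionRing (ResidueField R) (A ⧸ p)
  haveI : Module.Finite (ResidueField R) (A ⧸ p) := Algebra.FormallyUnramified.finite_of_free _ _
  have hfield : IsField (A ⧸ p) := isField_of_isIntegral_of_isField' (Field.toIsField (ResidueField R))
  let _ := hfield.toField
  haveI : Algebra.IsSeparable (ResidueField R) (A ⧸ p) := Algebra.FormallyUnramified.isSeparable _ _
  have hbij : Function.Bijective (algebraMap (ResidueField R) (A ⧸ p)) :=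
    ⟨RingHom.injective _, IsSepClosed.algebraMap_surjective _ _⟩
  let e : ResidueField R ≃ₐ[R] A ⧸ p := AlgEquiv.ofBijective (IsScalarTower.toAlgHom R (ResidueField R) (A ⧸ p)) hbij
  refine ⟨e.symm.toAlgHom.comp (Ideal.Quotient.mkₐ R p), ?_⟩
  ext x
  rw [RingHom.mem_ker]
  show e.symm (Ideal.Quotient.mk p x) = 0 ↔ _
  rw [EmbeddingLike.map_eq_zero_iff, Ideal.Quotient.eq_zero_iff_mem]

/-- Through every point over the closed point passes a section. -/
theorem exists_section [HenselianLocalRing R] [IsSepClosed (ResidueField R)] [Algebra.Etale R A]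
    (p : Ideal A) [p.IsPrime] (hp : p.comap (algebraMap R A) = maximalIdeal R) :
    ∃ τ : A →ₐ[R] R, (maximalIdeal R).comap τ.toRingHom = p := by
  obtain ⟨σ, hσ⟩ := exists_residue p hp
  obtain ⟨τ, hτ, -⟩ := Hens.existsUnique_lift_of_henselianRing
    (inferInstanceAs (HenselianRing R (maximalIdeal R))) σ
  refine ⟨τ, ?_⟩
  rw [← hσ]
  ext x
  rw [Ideal.mem_comap, RingHom.mem_ker, ← Ideal.Quotient.eq_zero_iff_mem]
  exact iff_of_eq (congrArg (· = 0) (congr($hτ x)))

/-- The kernel of a section of an unramified algebra is killed by an element with value one. -/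
theorem exists_idem [Algebra.FormallyUnramified R A] [Algebra.EssFiniteType R A] (τ : A →ₐ[R] R) :
    ∃ e : A, τ e = 1 ∧ ∀ x, τ x = 0 → x * e = 0 := by
  obtain ⟨t, ht, ht1⟩ := (Algebra.FormallyUnramified.iff_exists_tensorProduct (R := R) (S := A)).1 ‹_›
  let g : A ⊗[R] A →ₐ[R] A :=
    Algebra.TensorProduct.lift ((Algebra.ofId R A).comp τ) (AlgHom.id R A) fun _ _ => mul_comm _ _
  refine ⟨g t, ?_, fun x hx => ?_⟩
  · have h : τ.comp g = τ.comp (Algebra.TensorProduct.lmul' R) := Algebra.TensorProduct.ext' fun a b => by
      simp [g]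
    exact (congr($h t)).trans (by rw [AlgHom.comp_apply, ht1, map_one])
  · have h := congrArg g (ht x)
    simpa [g, hx] using h

/-- A point of the generic fibre specialising to a point of a section is the section. -/
theorem eq_ker [IsLocalRing R] [Algebra.FormallyUnramified R A] [Algebra.EssFiniteType R A] (τ : A →ₐ[R] R)
    {q : Ideal A} [q.IsPrime] (hq : q.comap (algebraMap R A) = ⊥)
    (hle : q ≤ (maximalIdeal R).comap τ.toRingHom) : q = RingHom.ker τ.toRingHom := by
  obtain ⟨e, he, hek⟩ := exists_idem τ
  have heq : e ∉ q := fun h => (maximalIdeal.isMaximal R).ne_top ((Ideal.eq_top_iff_one _).2 (by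
    have := hle h
    rwa [Ideal.mem_comap, show τ.toRingHom e = 1 from he] at this))
  have hker : RingHom.ker τ.toRingHom ≤ q := fun x hx => by
    refine (Ideal.IsPrime.mem_or_mem inferInstance ?_).resolve_right heq
    rw [hek x hx]
    exact zero_mem _
  refine le_antisymm (fun x hx => ?_) hker
  have h1 : x - algebraMap R A (τ x) ∈ q := hker (by rw [RingHom.mem_ker]; simp)
  have h2 : algebraMap R A (τ x) ∈ q := by simpa using sub_mem hx h1
  rw [← Ideal.mem_comap, hq] at h2
  exact h2

end Groth.Agent.SplitNode14
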