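import Groth.Agent.Lib.SplitNode14.Origin
import Groth.Agent.Lib.SplitNode14.Section
import Mathlib.RingTheory.Unramified.LocalRing
import Mathlib.RingTheory.RingHom.Flat
import Mathlib.RingTheory.Etale.Locus
import Mathlib.RingTheory.Localization.FractionRing

/-!
# Split nodes on generic fibres over strictly henselian bases
-/

set_option autoImplicit false
set_option linter.style.haveILetI false
set_option backward.isDefEq.respectTransparency.types false

universe u

open IsLocalRing
open Groth.Agent.NodalEtale14 (Node)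
open scoped TensorProduct

noncomputable section

namespace Groth.Agent.SplitNode14

/-- The fraction field is the localisation of an unramified algebra at the kernel of a section. -/
theorem isLocalization_of_section {R A K : Type u} [CommRing R] [CommRing A] [Algebra R A]
    [Algebra.FormallyUnramified R A] [Algebra.EssFiniteType R A] [IsDomain R] [Field K] [Algebra R K]
    [IsFractionRing R K] (τ : A →ₐ[R] R) (q : Ideal A) [q.IsPrime] (hmem : ∀ x, x ∈ q ↔ τ x = 0) :
    letI : Algebra A K := ((algebraMap R K).comp τ.toRingHom).toAlgebra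
    IsLocalization q.primeCompl K := by
  letI : Algebra A K := ((algebraMap R K).comp τ.toRingHom).toAlgebra
  rw [isLocalization_iff]
  refine ⟨?_, ?_, ?_⟩
  · rintro ⟨x, hx⟩
    refine isUnit_iff_ne_zero.2 fun e => hx ?_
    exact (hmem x).2 (IsFractionRing.to_map_eq_zero_iff.1 e)
  · intro z
    obtain ⟨r, s, hs, rfl⟩ := IsFractionRing.div_surjective R z
    refine ⟨⟨algebraMap R A r, algebraMap R A s, fun h => ?_⟩, ?_⟩
    · have := (hmem _).1 h
      rw [AlgHom.commutes] at this
      exact nonZeroDivisors.ne_zero hs this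
    · show _ * algebraMap R K (τ (algebraMap R A s)) = algebraMap R K (τ (algebraMap R A r))
      rw [AlgHom.commutes, AlgHom.commutes]
      exact div_mul_cancel₀ _ ((map_ne_zero_iff _ (IsFractionRing.injective R K)).2 (nonZeroDivisors.ne_zero hs))
  · intro x y e
    obtain ⟨ev, he, hek⟩ := exists_idem τ
    refine ⟨⟨ev, fun h => ?_⟩, ?_⟩
    · exact one_ne_zero (he.symm.trans ((hmem _).1 h))
    · have e' : τ x = τ y := IsFractionRing.injective R K e
      have h := hek (x - y) (by rw [map_sub, e', sub_self])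
      show ev * x = ev * y
      linear_combination h

/-- Local rings along étale ring maps. -/
theorem localRingHom_etale {N U : Type u} [CommRing N] [CommRing U] (ψ : N →+* U) (hψ : ψ.Etale)
    (Q : Ideal U) [Q.IsPrime] :
    (Localization.localRingHom (Q.comap ψ) Q ψ rfl).Flat ∧
      (maximalIdeal (Localization.AtPrime (Q.comap ψ))).map (Localization.localRingHom (Q.comap ψ) Q ψ rfl) =
        maximalIdeal (Localization.AtPrime Q) := by
  letI : Algebra N U := ψ.toAlgebra
  haveI : Algebra.Etale N U := hψ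
  haveI : Q.LiesOver (Q.comap ψ) := ⟨rfl⟩
  have hψflat : ψ.Flat := RingHom.flat_algebraMap_iff (R := N) (S := U).2 inferInstance
  refine ⟨hψflat.localRingHom Q _ rfl, ?_⟩
  letI := Localization.AtPrime.algebraOfLiesOver (Q.comap ψ) Q
  have hunr := (Algebra.isUnramifiedAt_iff_map_eq N (Q.comap ψ) Q).1 inferInstance
  rw [← Localization.AtPrime.map_eq_maximalIdeal, Ideal.map_map]
  convert hunr.2 using 2
  refine RingHom.ext fun x => ?_
  exact Localization.localRingHom_to_map _ Q ψ rfl x

/-- The split double point of the localised node model, with its field of constants. -/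
theorem exists_node_field {A K : Type u} [CommRing A] [Field K] [Algebra A K] (q : Ideal A) [q.IsPrime]
    [IsLocalization q.primeCompl K] (a : A) (ha : algebraMap A K a = 0) (N : Ideal (Node A a)) [N.IsPrime]
    (h0 : ∀ k : Fin 2, Ideal.Quotient.mk _ (MvPolynomial.X k) ∈ N)
    (hN : ∀ x, Ideal.Quotient.mk _ (MvPolynomial.C x) ∈ N → x ∈ q) :
    ∃ j : K →+* Localization.AtPrime N,
      (∀ x, j (algebraMap A K x) = algebraMap (Node A a) _ (Ideal.Quotient.mk _ (MvPolynomial.C x))) ∧
      @Curv2.IsOrdDoublePt K _ (Localization.AtPrime N) _ j.toAlgebra _ := by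
  let B := Localization.AtPrime N
  have hMN : ∀ x ∈ q.primeCompl, Ideal.Quotient.mk _ (MvPolynomial.C x) ∉ N := fun x hx h => hx (hN x h)
  have hu : ∀ y : q.primeCompl,
      IsUnit ((algebraMap (Node A a) B).comp ((Ideal.Quotient.mk _).comp MvPolynomial.C) (y : A)) := fun y =>
    IsLocalization.map_units B (⟨_, hMN y y.2⟩ : N.primeCompl)
  letI : Algebra K B := (IsLocalization.lift hu : K →+* B).toAlgebra
  exact ⟨_, IsLocalization.lift_eq hu,
    isOrdDoublePt_node q.primeCompl a ha N h0 hMN fun x => (IsLocalization.lift_eq hu x).symm⟩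

variable {R A U : Type u} [CommRing R] [IsDomain R] [HenselianLocalRing R] [IsSepClosed (ResidueField R)]
  [CommRing A] [CommRing U] [Algebra R A] [Algebra.Etale R A] [Algebra R U]
  (i : A →+* U) (hi : i.comp (algebraMap R A) = algebraMap R U)
  (a : A) (ψ : Node A a →+* U) (hψ : ψ.Etale) (hψi : ψ.comp ((Ideal.Quotient.mk _).comp MvPolynomial.C) = i)
  (Q Qx : Ideal U) [Q.IsPrime] [Qx.IsPrime] (hle : Q ≤ Qx)
  (hQ : Q.comap (algebraMap R U) = ⊥) (hQx : Qx.comap (algebraMap R U) = maximalIdeal R)
  (h0 : ∀ k, ψ (Ideal.Quotient.mk _ (MvPolynomial.X k)) ∈ Q)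

include hψ hψi hi hle hQ hQx h0 in
/-- The residue ring of the node on the generic fibre is the base. -/
theorem exists_sub_algebraMap_mem (z : U) : ∃ r : R, z - algebraMap R U r ∈ Q := by
  haveI : (Qx.comap i).IsPrime := Ideal.IsPrime.comap i
  haveI : (Q.comap i).IsPrime := Ideal.IsPrime.comap i
  obtain ⟨τ, hτ⟩ := exists_section (R := R) (Qx.comap i) (by rw [Ideal.comap_comap, hi, hQx])
  have hq : Q.comap i = RingHom.ker τ.toRingHom :=
    eq_ker τ (q := Q.comap i) (by rw [Ideal.comap_comap, hi, hQ]) (by rw [hτ]; exact Ideal.comap_mono hle)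
  have hCi : ∀ x, ψ (Ideal.Quotient.mk _ (MvPolynomial.C x)) = i x := fun x => RingHom.congr_fun hψi x
  have ha : τ a = 0 := by
    have h : a ∈ Q.comap i := by
      rw [Ideal.mem_comap, ← hCi]
      have e : Ideal.Quotient.mk (Ideal.span {(MvPolynomial.X 0 * MvPolynomial.X 1 - MvPolynomial.C a :
          MvPolynomial (Fin 2) A)}) (MvPolynomial.C a) = Ideal.Quotient.mk _ (MvPolynomial.X 0 * MvPolynomial.X 1) :=
        (Ideal.Quotient.eq.2 (Ideal.mem_span_singleton_self _)).symm
      rw [e, map_mul, map_mul]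
      exact Ideal.mul_mem_right _ _ (h0 0)
    rw [hq] at h
    exact h
  let χ₀ : MvPolynomial (Fin 2) A →+* R := MvPolynomial.eval₂Hom τ.toRingHom fun _ => 0
  let χ : Node A a →+* R := Ideal.Quotient.lift _ χ₀ fun x hx => by
    obtain ⟨b, rfl⟩ := Ideal.mem_span_singleton'.1 hx
    simp [χ₀, ha]
  have hχψ : ∀ x, ψ x - algebraMap R U (χ x) ∈ Q := fun x => by
    refine Ideal.Quotient.eq.1 (RingHom.congr_fun (f := (Ideal.Quotient.mk Q).comp ψ)
      (g := ((Ideal.Quotient.mk Q).comp (algebraMap R U)).comp χ) (Ideal.Quotient.ringHom_ext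
      (MvPolynomial.ringHom_ext (fun c => ?_) fun k => ?_)) x)
    · show Ideal.Quotient.mk Q (ψ (Ideal.Quotient.mk _ (MvPolynomial.C c))) =
        Ideal.Quotient.mk Q (algebraMap R U (χ₀ (MvPolynomial.C c)))
      rw [hCi, show χ₀ (MvPolynomial.C c) = τ c from MvPolynomial.eval₂Hom_C _ _ _, Ideal.Quotient.eq, ← hi,
        RingHom.comp_apply, ← map_sub]
      show c - algebraMap R A (τ c) ∈ Q.comap i
      rw [hq, RingHom.mem_ker]
      simp
    · show Ideal.Quotient.mk Q (ψ (Ideal.Quotient.mk _ (MvPolynomial.X k))) =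
        Ideal.Quotient.mk Q (algebraMap R U (χ₀ (MvPolynomial.X k)))
      rw [Ideal.Quotient.eq_zero_iff_mem.2 (h0 k), show χ₀ (MvPolynomial.X k) = 0 from MvPolynomial.eval₂Hom_X' _ _ _,
        map_zero, map_zero]
  letI : Algebra (Node A a) R := χ.toAlgebra
  letI : Algebra (Node A a) U := ψ.toAlgebra
  haveI : Algebra.Etale (Node A a) U := hψ
  let T := R ⊗[Node A a] U
  let gR : R →+* U ⧸ Q := (Ideal.Quotient.mk Q).comp (algebraMap R U)
  haveI : IsScalarTower (Node A a) R (U ⧸ Q) :=
    IsScalarTower.of_algebraMap_eq fun x => Ideal.Quotient.eq.2 (hχψ x)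
  let g : T →ₐ[R] U ⧸ Q := Algebra.TensorProduct.lift (Algebra.ofId R (U ⧸ Q))
    (IsScalarTower.toAlgHom (Node A a) U (U ⧸ Q)) fun _ _ => mul_comm _ _
  have hg : ∀ u : U, g (1 ⊗ₜ u) = Ideal.Quotient.mk Q u := fun u => by
    show Algebra.TensorProduct.lift _ _ _ (1 ⊗ₜ u) = _
    rw [Algebra.TensorProduct.lift_tmul, map_one, one_mul]
    rfl
  haveI : (RingHom.ker g.toRingHom).IsPrime := RingHom.ker_isPrime _
  haveI : (Qx.map (Ideal.Quotient.mk Q)).IsPrime :=
    Ideal.map_isPrime_of_surjective Ideal.Quotient.mk_surjective (by rwa [Ideal.mk_ker])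
  have hQx' : (Qx.map (Ideal.Quotient.mk Q)).comap (Ideal.Quotient.mk Q) = Qx := by
    rw [Ideal.comap_map_of_surjective _ Ideal.Quotient.mk_surjective, ← RingHom.ker_eq_comap_bot, Ideal.mk_ker,
      sup_eq_left.2 hle]
  have hPT : ((Qx.map (Ideal.Quotient.mk Q)).comap g.toRingHom).comap (algebraMap R T) = maximalIdeal R := by
    rw [Ideal.comap_comap, show g.toRingHom.comp (algebraMap R T) = (Ideal.Quotient.mk Q).comp (algebraMap R U)
      from g.comp_algebraMap, ← Ideal.comap_comap, hQx', hQx]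
  obtain ⟨τ', hτ'⟩ := exists_section ((Qx.map (Ideal.Quotient.mk Q)).comap g.toRingHom) hPT
  have hk : RingHom.ker g.toRingHom = RingHom.ker τ'.toRingHom := by
    refine eq_ker τ' ?_ ?_
    · rw [RingHom.comap_ker, show g.toRingHom.comp (algebraMap R T) = (Ideal.Quotient.mk Q).comp (algebraMap R U)
        from g.comp_algebraMap, ← RingHom.comap_ker, Ideal.mk_ker, hQ]
    · rw [hτ']
      exact Ideal.comap_mono bot_le
  refine ⟨τ' (1 ⊗ₜ z), ?_⟩
  have h : (1 : R) ⊗ₜ[Node A a] z - algebraMap R T (τ' (1 ⊗ₜ z)) ∈ RingHom.ker g.toRingHom := by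
    rw [hk, RingHom.mem_ker, map_sub]
    exact sub_eq_zero.2 (τ'.commutes _).symm
  rw [RingHom.mem_ker, map_sub, AlgHom.toRingHom_eq_coe, RingHom.coe_coe, hg, AlgHom.commutes] at h
  exact Ideal.Quotient.eq.1 (sub_eq_zero.1 h)

variable {K : Type u} [Field K] [Algebra R K] [IsFractionRing R K] [Algebra K (Localization.AtPrime Q)]
  (hK : ∀ r, algebraMap K (Localization.AtPrime Q) (algebraMap R K r) =
    algebraMap U (Localization.AtPrime Q) (algebraMap R U r))

include hψ hψi hi hle hQ hQx h0 hK in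
/-- The residue field of the node on the generic fibre is the fraction field of the base. -/
theorem exists_sub_algebraMap_mem_maximalIdeal (z : Localization.AtPrime Q) :
    ∃ c : K, z - algebraMap K (Localization.AtPrime Q) c ∈ maximalIdeal (Localization.AtPrime Q) := by
  let L := Localization.AtPrime Q
  obtain ⟨x, ⟨s, hs⟩, rfl⟩ := IsLocalization.exists_mk'_eq Q.primeCompl z
  obtain ⟨r, hr⟩ := exists_sub_algebraMap_mem i hi a ψ hψ hψi Q Qx hle hQ hQx h0 x
  obtain ⟨t, ht⟩ := exists_sub_algebraMap_mem i hi a ψ hψ hψi Q Qx hle hQ hQx h0 s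
  have ht0 : algebraMap R K t ≠ 0 := fun e => hs (by
    rw [IsFractionRing.to_map_eq_zero_iff] at e
    rwa [e, map_zero, sub_zero] at ht)
  refine ⟨algebraMap R K r / algebraMap R K t, ?_⟩
  have hunit : IsUnit (algebraMap U L s) := IsLocalization.map_units L (⟨s, hs⟩ : Q.primeCompl)
  refine (Ideal.unit_mul_mem_iff_mem _ hunit).1 ?_
  have hm : ∀ u ∈ Q, algebraMap U L u ∈ maximalIdeal L := fun u hu =>
    (IsLocalization.AtPrime.to_map_mem_maximal_iff L Q u).2 hu
  set c := algebraMap R K r / algebraMap R K t with hcdef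
  have hc : algebraMap K L c * algebraMap U L (algebraMap R U t) = algebraMap U L (algebraMap R U r) := by
    rw [← hK, ← hK, ← map_mul, hcdef, div_mul_cancel₀ _ ht0]
  have e : algebraMap U L s * (IsLocalization.mk' L x ⟨s, hs⟩ - algebraMap K L c) =
      algebraMap U L (x - algebraMap R U r) - algebraMap K L c * algebraMap U L (s - algebraMap R U t) := by
    rw [mul_sub, IsLocalization.mk'_spec'_mk, map_sub, map_sub, mul_sub, hc]
    ring
  rw [e]
  exact sub_mem (hm _ hr) (Ideal.mul_mem_left _ _ (hm _ ht))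

include hψ hψi hi hle hQ hQx h0 hK in
/-- The node on the generic fibre over a strictly henselian domain is split. -/
theorem isOrdDoublePt_split : Curv2.IsOrdDoublePt K (Localization.AtPrime Q) := by
  haveI : (Qx.comap i).IsPrime := Ideal.IsPrime.comap i
  haveI : (Q.comap i).IsPrime := Ideal.IsPrime.comap i
  haveI : (Q.comap ψ).IsPrime := Ideal.IsPrime.comap ψ
  obtain ⟨τ, hτ⟩ := exists_section (R := R) (Qx.comap i) (by rw [Ideal.comap_comap, hi, hQx])
  have hq : Q.comap i = RingHom.ker τ.toRingHom :=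
    eq_ker τ (q := Q.comap i) (by rw [Ideal.comap_comap, hi, hQ]) (by rw [hτ]; exact Ideal.comap_mono hle)
  have hCi : ∀ x, ψ (Ideal.Quotient.mk _ (MvPolynomial.C x)) = i x := fun x => RingHom.congr_fun hψi x
  have hmem : ∀ x, x ∈ Q.comap i ↔ τ x = 0 := fun x => by rw [hq]; exact RingHom.mem_ker
  have ha : algebraMap R K (τ a) = 0 := by
    have h : a ∈ Q.comap i := by
      rw [Ideal.mem_comap, ← hCi]
      have e : Ideal.Quotient.mk (Ideal.span {(MvPolynomial.X 0 * MvPolynomial.X 1 - MvPolynomial.C a :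
          MvPolynomial (Fin 2) A)}) (MvPolynomial.C a) = Ideal.Quotient.mk _ (MvPolynomial.X 0 * MvPolynomial.X 1) :=
        (Ideal.Quotient.eq.2 (Ideal.mem_span_singleton_self _)).symm
      rw [e, map_mul, map_mul]
      exact Ideal.mul_mem_right _ _ (h0 0)
    rw [(hmem a).1 h, map_zero]
  letI : Algebra A K := ((algebraMap R K).comp τ.toRingHom).toAlgebra
  haveI : IsLocalization (Q.comap i).primeCompl K := isLocalization_of_section τ (Q.comap i) hmem
  obtain ⟨j, hj, hB⟩ := exists_node_field (K := K) (Q.comap i) a ha (Q.comap ψ) h0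
    fun x hx => by rw [Ideal.mem_comap, hCi] at hx; exact hx
  obtain ⟨hflat, hmax⟩ := localRingHom_etale ψ hψ Q
  letI : Algebra K (Localization.AtPrime (Q.comap ψ)) := j.toAlgebra
  haveI := Localization.isLocalHom_localRingHom (Q.comap ψ) Q ψ rfl
  have hKφ : ∀ c, Localization.localRingHom (Q.comap ψ) Q ψ rfl (j c) = algebraMap K (Localization.AtPrime Q) c := by
    intro c
    refine RingHom.congr_fun (IsLocalization.ringHom_ext (nonZeroDivisors R)
      (j := (Localization.localRingHom (Q.comap ψ) Q ψ rfl).comp j) (k := algebraMap K (Localization.AtPrime Q))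
      (RingHom.ext fun r => ?_)) c
    rw [RingHom.comp_apply, RingHom.comp_apply, RingHom.comp_apply, hK]
    have h1 : algebraMap R K r = algebraMap A K (algebraMap R A r) := by
      show _ = algebraMap R K (τ (algebraMap R A r))
      rw [AlgHom.commutes]; rfl
    rw [h1, hj, Localization.localRingHom_to_map, hCi]
    exact congrArg _ (RingHom.congr_fun hi r)
  refine (isOrdDoublePt_iff_of_etale _ hflat hmax (fun z => ?_) hKφ).1 hB
  obtain ⟨c, hc⟩ := exists_sub_algebraMap_mem_maximalIdeal i hi a ψ hψ hψi Q Qx hle hQ hQx h0 hK z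
  exact ⟨j c, by rw [hKφ]; exact hc⟩

end Groth.Agent.SplitNode14
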