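import Groth.Prelude.Def_CurvBase
import Groth.Agent.Lib.CplLevelH7.Equiv

/-!
# Ordinary double points along étale local maps with trivial residue extension
-/

set_option autoImplicit false
set_option linter.style.haveILetI false
set_option backward.isDefEq.respectTransparency.types false

universe u

open IsLocalRing

noncomputable section

namespace Groth.Agent.SplitNode14

variable {B B' : Type u} [CommRing B] [IsLocalRing B] [CommRing B'] [IsLocalRing B']

/-- Every element is congruent to one of the smaller ring modulo each power. -/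
theorem exists_sub_mem_pow (φ : B →+* B') (hmax : (maximalIdeal B).map φ = maximalIdeal B')
    (hres : ∀ z, ∃ b, z - φ b ∈ maximalIdeal B') (n : ℕ) (z : B') :
    ∃ b, z - φ b ∈ maximalIdeal B' ^ n := by
  induction n generalizing z with
  | zero => exact ⟨0, by rw [pow_zero, Ideal.one_eq_top]; trivial⟩
  | succ n ih =>
    obtain ⟨b, hb⟩ := ih z
    suffices key : ∀ x ∈ maximalIdeal B' ^ n, ∃ c, x - φ c ∈ maximalIdeal B' ^ (n + 1) by
      obtain ⟨c, hc⟩ := key _ hb
      exact ⟨b + c, by rwa [map_add, ← sub_sub]⟩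
    intro x hx
    rw [← hmax, ← Ideal.map_pow] at hx
    refine Submodule.span_induction (p := fun x _ => ∃ c, x - φ c ∈ maximalIdeal B' ^ (n + 1)) ?_ ?_ ?_ ?_ hx
    · rintro _ ⟨c, -, rfl⟩
      exact ⟨c, by simp⟩
    · exact ⟨0, by simp⟩
    · rintro x y - - ⟨c, hc⟩ ⟨d, hd⟩
      refine ⟨c + d, ?_⟩
      rw [map_add, show x + y - (φ c + φ d) = (x - φ c) + (y - φ d) by ring]
      exact add_mem hc hd
    · rintro r x hx ⟨c, hc⟩
      obtain ⟨s, hs⟩ := hres r
      refine ⟨s * c, ?_⟩
      rw [smul_eq_mul, map_mul, show r * x - φ s * φ c = (r - φ s) * x + φ s * (x - φ c) by ring]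
      refine add_mem ?_ (Ideal.mul_mem_left _ _ hc)
      rw [pow_succ']
      refine Ideal.mul_mem_mul hs ?_
      rw [← hmax, ← Ideal.map_pow]
      exact hx

/-- Completions along a flat local map with `mB' = m'` and trivial residue extension. -/
theorem exists_cplEquiv (φ : B →+* B') [IsLocalHom φ] (hflat : φ.Flat)
    (hmax : (maximalIdeal B).map φ = maximalIdeal B') (hres : ∀ z, ∃ b, z - φ b ∈ maximalIdeal B') :
    ∃ E : AdicCompletion (maximalIdeal B) B ≃+* AdicCompletion (maximalIdeal B') B',
      ∀ b, E (algebraMap B _ b) = algebraMap B' _ (φ b) := by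
  letI : Algebra B B' := φ.toAlgebra
  haveI : Module.Flat B B' := hflat
  haveI : IsLocalHom (algebraMap B B') := ‹IsLocalHom φ›
  haveI := Module.FaithfullyFlat.of_flat_of_isLocalHom (A := B) (B := B')
  let f : B →ₐ[B] B' := Algebra.ofId B B'
  have hB' : (maximalIdeal B).map (algebraMap B B') = maximalIdeal B' := hmax
  have hB : (maximalIdeal B).map (algebraMap B B) = maximalIdeal B := Ideal.map_id _
  have hbij : ∀ n, Function.Bijective (CplLevelH7.lev (maximalIdeal B) f n) := fun n => by
    refine ⟨(injective_iff_map_eq_zero _).2 fun x hx => ?_, fun y => ?_⟩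
    · obtain ⟨a, rfl⟩ := Ideal.Quotient.mk_surjective x
      rw [CplLevelH7.lev_mk, Ideal.Quotient.eq_zero_iff_mem, ← Ideal.map_pow] at hx
      rw [Ideal.Quotient.eq_zero_iff_mem, hB]
      rwa [← Ideal.comap_map_eq_self_of_faithfullyFlat (B := B') (maximalIdeal B ^ n), Ideal.mem_comap]
    · obtain ⟨z, rfl⟩ := Ideal.Quotient.mk_surjective y
      obtain ⟨b, hb⟩ := exists_sub_mem_pow φ hmax hres n z
      refine ⟨Ideal.Quotient.mk _ b, ?_⟩
      rw [CplLevelH7.lev_mk]
      exact (Ideal.Quotient.eq.2 (by rwa [hB'])).symm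
  have he := CplLevelH7.exists_cplEquiv (B := B) (T := B') (maximalIdeal B) f hbij
  rw [hB, hB'] at he
  obtain ⟨E⟩ := he
  refine ⟨E.toRingEquiv, fun b => (E.commutes b).trans ?_⟩
  rfl

/-- Ordinary double points along flat local maps with `mB' = m'` and trivial residue extension. -/
theorem isOrdDoublePt_iff_of_etale {K : Type u} [Field K] [Algebra K B] [Algebra K B'] (φ : B →+* B')
    [IsLocalHom φ] (hflat : φ.Flat)
    (hmax : (maximalIdeal B).map φ = maximalIdeal B') (hres : ∀ z, ∃ b, z - φ b ∈ maximalIdeal B')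
    (hK : ∀ c, φ (algebraMap K B c) = algebraMap K B' c) :
    Curv2.IsOrdDoublePt K B ↔ Curv2.IsOrdDoublePt K B' := by
  obtain ⟨E, hE⟩ := exists_cplEquiv φ hflat hmax hres
  constructor
  · rintro ⟨e, he⟩
    refine ⟨E.symm.trans e, fun c => ?_⟩
    rw [RingEquiv.trans_apply, ← hK, ← hE, E.symm_apply_apply]
    exact he c
  · rintro ⟨e, he⟩
    refine ⟨E.trans e, fun c => ?_⟩
    rw [RingEquiv.trans_apply, hE, hK]
    exact he c

end Groth.Agent.SplitNode14
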