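import Groth.Agent.Lib.SplitNode14.Complete
import Groth.Agent.Lib.QuadSing19.Point
import Groth.Agent.Lib.NodalEtale14.Local
import Mathlib.RingTheory.Localization.LocalizationLocalization
import Mathlib.RingTheory.MvPolynomial.Localization

/-!
# The split double point of the node model
-/

set_option autoImplicit false
set_option linter.style.haveILetI false
set_option backward.isDefEq.respectTransparency.types false

universe u

open IsLocalRing MvPolynomial
open Groth.Agent.NodalEtale14 (Node)

noncomputable section

namespace Groth.Agent.SplitNode14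

/-- The origin of the coordinate cross over a field. -/
theorem isOrdDoublePt_origin {K : Type u} [Field K] (P : Ideal (Node K 0)) [P.IsPrime]
    (hP : P.comap (Ideal.Quotient.mk _) = RingHom.ker (MvPolynomial.eval (0 : Fin 2 → K))) :
    Curv2.IsOrdDoublePt K (Localization.AtPrime P) := by
  obtain ⟨χ, -, -, ⟨e⟩⟩ :=
    QuadSing19.exists_expansion (f := (X 0 * X 1 - C 0 : MvPolynomial (Fin 2) K)) (P := P) (a := 0) ⟨hP⟩
  have hq : Ideal.span {QuadSing19.taylor (0 : Fin 2 → K) (X 0 * X 1 - C 0)} =
      Ideal.span {(MvPowerSeries.X 0 * MvPowerSeries.X 1 : MvPowerSeries (Fin 2) K)} := by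
    simp [QuadSing19.taylor]
  let e' := e.trans (Ideal.quotientEquivAlgOfEq K hq)
  refine ⟨e'.toRingEquiv, fun c => Eq.trans (congrArg e' ?_) (e'.commutes c)⟩
  rfl

/-- Localising at a prime of a localisation does not change the singularity. -/
theorem isOrdDoublePt_of_localization {A R S B K : Type u} [CommRing A] [Field K] [Algebra A K] (M : Submonoid A)
    [IsLocalization M K] [CommRing R] (ι : A →+* R) [CommRing S] [Algebra R S] [Algebra K S] (M' : Submonoid R)
    [IsLocalization M' S] (P : Ideal S) [P.IsPrime] (N : Ideal R) [N.IsPrime] (hPN : P.comap (algebraMap R S) = N)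
    (hι : ∀ x, algebraMap R S (ι x) = algebraMap K S (algebraMap A K x)) [CommRing B] [IsLocalRing B]
    [Algebra R B] [IsLocalization.AtPrime B N] [Algebra K B]
    (hK : ∀ x : A, algebraMap R B (ι x) = algebraMap K B (algebraMap A K x))
    (h : Curv2.IsOrdDoublePt K (Localization.AtPrime P)) : Curv2.IsOrdDoublePt K B := by
  subst hPN
  haveI : IsLocalization.AtPrime (Localization.AtPrime P) (P.comap (algebraMap R S)) :=
    IsLocalization.isLocalization_isLocalization_atPrime_isLocalization M' (Localization.AtPrime P) P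
  let e : Localization.AtPrime P ≃ₐ[R] B :=
    IsLocalization.algEquiv (P.comap (algebraMap R S)).primeCompl (Localization.AtPrime P) B
  have hmax : (maximalIdeal (Localization.AtPrime P)).map e.toRingEquiv.toRingHom = maximalIdeal B :=
    IsLocalRing.map_maximalIdeal_of_surjective e.toRingEquiv.toRingHom e.surjective
  haveI : IsLocalHom e.toRingEquiv.toRingHom := ⟨fun x hx => (MulEquiv.isUnit_map e.toRingEquiv.toMulEquiv).1 hx⟩
  refine (isOrdDoublePt_iff_of_etale e.toRingEquiv.toRingHom (RingHom.Flat.of_bijective e.bijective) hmax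
    (fun z => ⟨e.symm z, by simp⟩) fun c => ?_).1 h
  refine RingHom.congr_fun (IsLocalization.ringHom_ext M
    (j := e.toRingEquiv.toRingHom.comp (algebraMap K (Localization.AtPrime P)))
    (k := algebraMap K B) (RingHom.ext fun x => ?_)) c
  show e (algebraMap K (Localization.AtPrime P) (algebraMap A K x)) = algebraMap K B (algebraMap A K x)
  rw [← hK, ← e.commutes, IsScalarTower.algebraMap_apply R S (Localization.AtPrime P), hι,
    ← IsScalarTower.algebraMap_apply K S (Localization.AtPrime P)]

/-- Over a point where the parameter vanishes and the base localises to a field, the node model has a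
split ordinary double point. -/
theorem isOrdDoublePt_node {A K : Type u} [CommRing A] [Field K] [Algebra A K] (M : Submonoid A)
    [IsLocalization M K] (a : A) (ha : algebraMap A K a = 0) (N : Ideal (Node A a)) [N.IsPrime]
    (h0 : ∀ k : Fin 2, Ideal.Quotient.mk _ (X k) ∈ N)
    (hM : ∀ x ∈ M, Ideal.Quotient.mk _ (C x) ∉ N)
    {B : Type u} [CommRing B] [IsLocalRing B] [Algebra (Node A a) B] [IsLocalization.AtPrime B N] [Algebra K B]
    (hK : ∀ x : A, algebraMap (Node A a) B (Ideal.Quotient.mk _ (C x)) = algebraMap K B (algebraMap A K x)) :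
    Curv2.IsOrdDoublePt K B := by
  letI : Algebra (MvPolynomial (Fin 2) A) (MvPolynomial (Fin 2) K) := MvPolynomial.algebraMvPolynomial
  haveI := MvPolynomial.isLocalization (σ := Fin 2) M K
  let fA : MvPolynomial (Fin 2) A := X 0 * X 1 - C a
  have hfA : algebraMap (MvPolynomial (Fin 2) A) (MvPolynomial (Fin 2) K) fA = X 0 * X 1 - C 0 := by
    show MvPolynomial.map (algebraMap A K) fA = _
    simp [fA, ha]
  let μ : Node A a →+* Node K 0 := Ideal.quotientMap _ (algebraMap _ _) (Ideal.map_le_iff_le_comap.1 (by
    rw [Ideal.map_span, Set.image_singleton]; exact le_of_eq (congrArg (fun x => Ideal.span {x}) hfA)))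
  letI : Algebra (Node A a) (Node K 0) := μ.toAlgebra
  let M₁ : Submonoid (MvPolynomial (Fin 2) A) := M.map (C (σ := Fin 2) : A →+* MvPolynomial (Fin 2) A)
  haveI hloc : IsLocalization (M₁.map (Ideal.Quotient.mk (Ideal.span {fA}))) (Node K 0) :=
    IsLocalization.of_surjective M₁ (MvPolynomial (Fin 2) K) _ Ideal.Quotient.mk_surjective
      (Ideal.Quotient.mk (Ideal.span {(X 0 * X 1 - C 0 : MvPolynomial (Fin 2) K)})) Ideal.Quotient.mk_surjective
      (RingHom.ext fun x => rfl) (by
        rw [Ideal.mk_ker, Ideal.mk_ker, Ideal.map_span, Set.image_singleton, hfA])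
  have hd : Disjoint (↑(M₁.map (Ideal.Quotient.mk (Ideal.span {fA}))) : Set (Node A a)) ↑N := by
    rw [Set.disjoint_left]
    rintro _ ⟨_, ⟨x, hx, rfl⟩, rfl⟩ h
    exact hM x hx h
  haveI hP : (N.map μ).IsPrime :=
    IsLocalization.isPrime_of_isPrime_disjoint (M₁.map (Ideal.Quotient.mk _)) (Node K 0) N inferInstance hd
  have hPN : (N.map μ).comap μ = N :=
    IsLocalization.under_map_of_isPrime_disjoint (M₁.map (Ideal.Quotient.mk _)) (Node K 0) inferInstance hd
  have hX : ∀ k : Fin 2, Ideal.Quotient.mk _ (X k) ∈ N.map μ := fun k => by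
    have h := Ideal.mem_map_of_mem μ (h0 k)
    rwa [show μ (Ideal.Quotient.mk _ (X k)) = Ideal.Quotient.mk _ (X k) from
      congrArg (Ideal.Quotient.mk _) (MvPolynomial.map_X (algebraMap A K) k)] at h
  have hsub : ∀ p : MvPolynomial (Fin 2) K,
      Ideal.Quotient.mk _ (p - C (eval (0 : Fin 2 → K) p)) ∈ N.map μ := fun p => by
    induction p using MvPolynomial.induction_on with
    | C c => simp
    | add p q hp hq =>
      have := add_mem hp hq
      rw [← map_add] at this
      convert this using 2
      rw [map_add (eval (0 : Fin 2 → K)), map_add C]; ring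
    | mul_X p k _ =>
      have e : p * X k - C (eval (0 : Fin 2 → K) (p * X k)) = p * X k := by simp
      rw [e, map_mul]
      exact Ideal.mul_mem_left _ _ (hX k)
  have hz : Ideal.Quotient.mk (Ideal.span {(X 0 * X 1 - C 0 : MvPolynomial (Fin 2) K)}) (C (0 : K)) = 0 :=
    (congrArg _ (map_zero C)).trans (map_zero _)
  have hker : (N.map μ).comap (Ideal.Quotient.mk _) = RingHom.ker (eval (0 : Fin 2 → K)) := by
    ext p
    rw [Ideal.mem_comap, RingHom.mem_ker]
    have h := hsub p
    rw [map_sub] at h
    constructor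
    · intro hp
      by_contra hne
      refine hP.ne_top (Ideal.eq_top_of_isUnit_mem _ ?_ ((Ideal.Quotient.mk _).isUnit_map
        ((isUnit_iff_ne_zero.2 hne).map C)))
      simpa using sub_mem hp h
    · intro hp
      rw [hp, hz, sub_zero] at h
      exact h
  refine isOrdDoublePt_of_localization M ((Ideal.Quotient.mk _).comp C) (M₁.map (Ideal.Quotient.mk _))
    (N.map μ) N hPN (fun x => ?_) hK (isOrdDoublePt_origin (N.map μ) hker)
  show Ideal.Quotient.mk _ (MvPolynomial.map (algebraMap A K) (C x)) = Ideal.Quotient.mk _ (C (algebraMap A K x))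
  rw [MvPolynomial.map_C]

end Groth.Agent.SplitNode14
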