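import Groth.Agent.Lib.NodalEtale14.Local
import Mathlib.RingTheory.Smooth.Basic
import Mathlib.RingTheory.RingHom.Smooth
import Mathlib.RingTheory.RingHom.Etale
import Mathlib.RingTheory.Localization.Away.Basic
import Mathlib.Algebra.Polynomial.AlgebraMap

/-!
# The node model away from its singular section
-/

set_option autoImplicit false
set_option linter.style.haveILetI false
set_option backward.isDefEq.respectTransparency.types false

universe u

open Groth.Agent.NodalEtale14 (Node)

noncomputable section

namespace Groth.Agent.SplitNode14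

/-- Where one coordinate is invertible, the node model is the punctured line. -/
theorem smooth_node_away (A : Type u) [CommRing A] (a : A) (k : Fin 2) :
    Algebra.Smooth A (Localization.Away (Ideal.Quotient.mk _ (MvPolynomial.X k) : Node A a)) := by
  let t : Node A a := Ideal.Quotient.mk _ (MvPolynomial.X k)
  let T : Polynomial A := Polynomial.X
  let L := Localization.Away T
  let LN := Localization.Away t
  let iT : L := IsLocalization.Away.invSelf T
  have hiT : algebraMap (Polynomial A) L T * iT = 1 := IsLocalization.Away.mul_invSelf T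
  let v : Fin 2 → L := fun j => if j = k then algebraMap (Polynomial A) L T else algebraMap A L a * iT
  have hv : v 0 * v 1 = algebraMap A L a := by
    fin_cases k <;> simp [v] <;> linear_combination (algebraMap A L a) * hiT
  let F0 : Node A a →ₐ[A] L := Ideal.Quotient.liftₐ _ (MvPolynomial.aeval v) fun x hx => by
    obtain ⟨b, rfl⟩ := Ideal.mem_span_singleton'.1 hx
    simp [hv]
  have hF0 : ∀ j, F0 (Ideal.Quotient.mk _ (MvPolynomial.X j)) = v j := fun j => MvPolynomial.aeval_X v j
  have hFu : ∀ y : Submonoid.powers t, IsUnit (F0 y) := by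
    rintro ⟨_, n, rfl⟩
    rw [map_pow, hF0]
    simp only [v, if_true]
    exact (IsLocalization.Away.algebraMap_isUnit T).pow n
  let F : LN →ₐ[A] L := IsLocalization.liftAlgHom (M := Submonoid.powers t) (f := F0) hFu
  let G0 : Polynomial A →ₐ[A] LN := Polynomial.aeval (algebraMap (Node A a) LN t)
  have hGu : ∀ y : Submonoid.powers T, IsUnit (G0 y) := by
    rintro ⟨_, n, rfl⟩
    rw [map_pow, show G0 T = algebraMap (Node A a) LN t from Polynomial.aeval_X _]
    exact (IsLocalization.Away.algebraMap_isUnit t).pow n
  let G : L →ₐ[A] LN := IsLocalization.liftAlgHom (M := Submonoid.powers T) (f := G0) hGu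
  have hF : ∀ z, F (algebraMap (Node A a) LN z) = F0 z := fun z => IsLocalization.lift_eq _ z
  have hG : ∀ p, G (algebraMap (Polynomial A) L p) = G0 p := fun p => IsLocalization.lift_eq _ p
  have hGT : G (algebraMap (Polynomial A) L T) = algebraMap (Node A a) LN t := by
    rw [hG]; exact Polynomial.aeval_X _
  have h1 : F.comp G = AlgHom.id A L := by
    refine IsLocalization.algHom_ext (Submonoid.powers T) (Polynomial.algHom_ext ?_)
    show F (G (algebraMap (Polynomial A) L T)) = algebraMap (Polynomial A) L T
    rw [hGT, hF, hF0]
    simp [v]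
  have h2 : G.comp F = AlgHom.id A LN := by
    refine IsLocalization.algHom_ext (Submonoid.powers t) (Ideal.Quotient.algHom_ext A (MvPolynomial.algHom_ext fun j => ?_))
    show G (F (algebraMap (Node A a) LN (Ideal.Quotient.mk _ (MvPolynomial.X j)))) =
      algebraMap (Node A a) LN (Ideal.Quotient.mk _ (MvPolynomial.X j))
    rw [hF, hF0]
    by_cases hj : j = k
    · subst hj; simp only [v, if_true]; exact hGT
    · simp only [v, if_neg hj]
      have hmul : algebraMap (Node A a) LN t * algebraMap (Node A a) LN (Ideal.Quotient.mk _ (MvPolynomial.X j)) =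
          algebraMap A LN a := by
        rw [← map_mul, IsScalarTower.algebraMap_apply A (Node A a) LN]
        congr 1
        have e : ∀ k j : Fin 2, j ≠ k → (MvPolynomial.X k * MvPolynomial.X j : MvPolynomial (Fin 2) A) =
            MvPolynomial.X 0 * MvPolynomial.X 1 := by
          intro k j h; fin_cases k <;> fin_cases j <;> first | exact absurd rfl h | rfl | exact mul_comm _ _
        rw [← map_mul, e k j hj]
        exact Ideal.Quotient.eq.2 (Ideal.mem_span_singleton_self _)
      refine ((IsLocalization.Away.algebraMap_isUnit t).mul_right_inj).1 ?_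
      rw [hmul, ← hGT, ← map_mul, mul_left_comm, hiT, mul_one, AlgHom.commutes]
  haveI : Algebra.Smooth A (Polynomial A) := ⟨inferInstance, inferInstance⟩
  haveI : Algebra.Smooth (Polynomial A) L := Algebra.Smooth.of_isLocalization_Away T
  haveI : Algebra.Smooth A L := Algebra.Smooth.comp A (Polynomial A) L
  exact Algebra.Smooth.of_equiv (AlgEquiv.ofAlgHom G F h2 h1)

/-- An étale algebra over the node model is smooth over the base away from the singular section. -/
theorem smooth_away {A U : Type u} [CommRing A] [CommRing U] (a : A) (ψ : Node A a →+* U) (hψ : ψ.Etale) (k : Fin 2) :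
    ((algebraMap U (Localization.Away (ψ (Ideal.Quotient.mk _ (MvPolynomial.X k))))).comp
      (ψ.comp ((Ideal.Quotient.mk _).comp MvPolynomial.C))).Smooth := by
  let t : Node A a := Ideal.Quotient.mk _ (MvPolynomial.X k)
  let UL := Localization.Away (ψ t)
  let LN := Localization.Away t
  let μ : LN →+* UL := IsLocalization.Away.lift t (g := (algebraMap U UL).comp ψ)
    (IsLocalization.Away.algebraMap_isUnit (ψ t))
  have hμ : μ.comp (algebraMap (Node A a) LN) = (algebraMap U UL).comp ψ :=
    RingHom.ext fun x => IsLocalization.Away.lift_eq t (IsLocalization.Away.algebraMap_isUnit (ψ t)) x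
  have hμe : μ.Etale := by
    letI : Algebra LN UL := μ.toAlgebra
    letI : Algebra (Node A a) UL := ((algebraMap U UL).comp ψ).toAlgebra
    haveI : IsScalarTower (Node A a) LN UL := IsScalarTower.of_algebraMap_eq' hμ.symm
    haveI : Algebra.Etale (Node A a) LN := Algebra.Etale.of_isLocalizationAway t
    haveI : Algebra.Etale (Node A a) UL := RingHom.Etale.stableUnderComposition _ _ hψ
      (RingHom.etale_algebraMap.2 (Algebra.Etale.of_isLocalizationAway (ψ t)))
    exact RingHom.etale_algebraMap.2 (Algebra.Etale.of_restrictScalars (Node A a) LN UL)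
  have hsm : (algebraMap A LN).Smooth := RingHom.smooth_algebraMap.2 (smooth_node_away A a k)
  have e : (algebraMap U UL).comp (ψ.comp ((Ideal.Quotient.mk _).comp MvPolynomial.C)) = μ.comp (algebraMap A LN) := by
    rw [IsScalarTower.algebraMap_eq A (Node A a) LN, ← RingHom.comp_assoc _ _ μ, hμ, RingHom.comp_assoc]
    rfl
  rw [e]
  refine RingHom.Smooth.comp hsm ?_
  letI : Algebra LN UL := μ.toAlgebra
  haveI : Algebra.Etale LN UL := hμe
  exact RingHom.smooth_algebraMap.2 inferInstance

end Groth.Agent.SplitNode14
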