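import Groth.Agent.Lib.SplitNode14.Algebra
import Groth.Agent.Lib.SplitNode14.Smooth
import Groth.Agent.Lib.NodalEtale14.Main
import Groth.Agent.Lib.AlgSpace.SmoothSource
import Groth.Agent.Lib.Descend.BaseChangeAt
import Groth.Agent.Lib.Weight4.Mult
import Mathlib.AlgebraicGeometry.Morphisms.Preimmersion
import Mathlib.AlgebraicGeometry.Morphisms.UniversallyOpen
import Mathlib.AlgebraicGeometry.Morphisms.Proper

/-!
# Singularities of the generic fibre of a nodal family over a strictly henselian domain
-/

set_option autoImplicit false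
set_option linter.style.haveILetI false
set_option backward.isDefEq.respectTransparency.types false

universe u

open CategoryTheory CategoryTheory.Limits AlgebraicGeometry IsLocalRing

noncomputable section

namespace Groth.Agent.SplitNode14

/-- The constants in the local ring of a scheme over a field. -/
theorem spec_stalkMap {k : Type u} [Field k] {X : Scheme.{u}} [X.Over (Spec (CommRingCat.of k))] (x : X) :
    Spec.map (CommRingCat.ofHom (Curv2.stalkMap k X x)) = X.fromSpecStalk x ≫ (X ↘ Spec (CommRingCat.of k)) := by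
  have hf : X ↘ Spec (CommRingCat.of k) =
      X.toSpecΓ ≫ Spec.map ((Scheme.ΓSpecIso (CommRingCat.of k)).inv ≫ (X ↘ Spec (CommRingCat.of k)).appTop) := by
    rw [Spec.map_comp, ← Scheme.toSpecΓ_naturality_assoc, toSpecΓ_SpecMap_ΓSpecIso_inv, Category.comp_id]
  rw [hf, Scheme.fromSpecStalk_toSpecΓ_assoc, ← Spec.map_comp]
  rfl

/-- The local ring map of an étale morphism from an affine scheme. -/
theorem exists_stalk_hom_etale {X : Scheme.{u}} {U : Type u} [CommRing U] (g : Spec (CommRingCat.of U) ⟶ X) [Etale g]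
    (w : Spec (CommRingCat.of U)) :
    ∃ θ : X.presheaf.stalk (g w) →+* Localization.AtPrime w.asIdeal, IsLocalHom θ ∧ θ.Flat ∧
      (maximalIdeal (X.presheaf.stalk (g w))).map θ = maximalIdeal (Localization.AtPrime w.asIdeal) ∧
      Spec.map (CommRingCat.ofHom θ) ≫ X.fromSpecStalk (g w) =
        Spec.map (CommRingCat.ofHom (algebraMap U (Localization.AtPrime w.asIdeal))) ≫ g := by
  let St := (Spec (CommRingCat.of U)).presheaf.stalk w
  letI : Algebra U St := StructureSheaf.stalkAlgebra U w
  haveI : IsLocalization.AtPrime St w.asIdeal := StructureSheaf.IsLocalization.to_stalk U w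
  let e : St ≃ₐ[U] Localization.AtPrime w.asIdeal := IsLocalization.algEquiv w.asIdeal.primeCompl _ _
  let θ : X.presheaf.stalk (g w) →+* Localization.AtPrime w.asIdeal := e.toRingEquiv.toRingHom.comp (g.stalkMap w).hom
  haveI : IsLocalHom e.toRingEquiv.toRingHom :=
    ⟨fun x hx => (MulEquiv.isUnit_map e.toRingEquiv.toMulEquiv).1 hx⟩
  refine ⟨θ, RingHom.isLocalHom_comp _ _, (Flat.stalkMap g w).comp (RingHom.Flat.of_bijective e.bijective), ?_, ?_⟩
  · rw [← Ideal.map_map, Weight.map_maximalIdeal_stalkMap g w]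
    exact IsLocalRing.map_maximalIdeal_of_surjective e.toRingEquiv.toRingHom e.surjective
  · have h : Spec.map (CommRingCat.ofHom e.toRingEquiv.toRingHom) ≫ (Spec (CommRingCat.of U)).fromSpecStalk w =
        Spec.map (CommRingCat.ofHom (algebraMap U (Localization.AtPrime w.asIdeal))) := by
      rw [Spec.fromSpecStalk_eq']
      refine (Spec.map_comp _ _).symm.trans ?_
      refine congrArg Spec.map (CommRingCat.hom_ext (RingHom.ext fun r => ?_))
      exact e.commutes r
    show Spec.map (CommRingCat.ofHom (e.toRingEquiv.toRingHom.comp (g.stalkMap w).hom)) ≫ _ = _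
    rw [CommRingCat.ofHom_comp, Spec.map_comp, Category.assoc, CommRingCat.ofHom_hom,
      Scheme.SpecMap_stalkMap_fromSpecStalk, ← Category.assoc, h]

/-- A projection from the generic fibre is bijective on local rings. -/
theorem bijective_stalkMap_fst {R : Type u} [CommRing R] [IsDomain R] {C : Scheme.{u}}
    (f : C ⟶ Spec (CommRingCat.of R)) (y : ↥(pullback f (Neron.genPt R))) :
    Function.Bijective ((pullback.fst f (Neron.genPt R)).stalkMap y).hom := by
  haveI : IsPreimmersion (Neron.genPt R) := IsPreimmersion.of_isLocalization (nonZeroDivisors R)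
  haveI : Flat (Neron.genPt R) := (HasRingHomProperty.Spec_iff (P := @Flat)).2
    (RingHom.flat_algebraMap_iff.2 (IsLocalization.flat (FractionRing R) (nonZeroDivisors R)))
  haveI : IsPreimmersion (pullback.fst f (Neron.genPt R)) := MorphismProperty.pullback_fst _ _ inferInstance
  haveI : Flat (pullback.fst f (Neron.genPt R)) := MorphismProperty.pullback_fst _ _ inferInstance
  let φ := ((pullback.fst f (Neron.genPt R)).stalkMap y).hom
  refine ⟨?_, (pullback.fst f (Neron.genPt R)).stalkMap_surjective y⟩
  letI := φ.toAlgebra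
  haveI : Module.Flat _ ((pullback f (Neron.genPt R)).presheaf.stalk y) :=
    Flat.stalkMap (pullback.fst f (Neron.genPt R)) y
  haveI : IsLocalHom (algebraMap (C.presheaf.stalk ((pullback.fst f (Neron.genPt R)) y))
      ((pullback f (Neron.genPt R)).presheaf.stalk y)) := inferInstanceAs (IsLocalHom φ)
  haveI := Module.FaithfullyFlat.of_flat_of_isLocalHom
    (A := C.presheaf.stalk ((pullback.fst f (Neron.genPt R)) y)) (B := (pullback f (Neron.genPt R)).presheaf.stalk y)
  exact FaithfulSMul.algebraMap_injective (C.presheaf.stalk ((pullback.fst f (Neron.genPt R)) y))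
    ((pullback f (Neron.genPt R)).presheaf.stalk y)

/-- Smoothness near a point from smoothness of an étale neighbourhood. -/
theorem mem_smoothLocus_of_etale {W X S : Scheme.{u}} (g : W ⟶ X) [Etale g] (f : X ⟶ S)
    [LocallyOfFinitePresentation f] [Smooth (g ≫ f)] (w : W) : g w ∈ f.smoothLocus := by
  let V : X.Opens := ⟨Set.range g, g.isOpenMap.isOpen_range⟩
  let g' : W ⟶ V := IsOpenImmersion.lift V.ι g (by rw [Scheme.Opens.range_ι]; rfl)
  have hg' : g' ≫ V.ι = g := IsOpenImmersion.lift_fac _ _ _
  haveI : Etale (g' ≫ V.ι) := by rw [hg']; infer_instance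
  haveI : Etale g' := Etale.of_comp g' V.ι
  haveI : Surjective g' := ⟨fun v => by
    obtain ⟨w', hw'⟩ := v.2
    exact ⟨w', V.ι.injective (by rw [← Scheme.Hom.comp_apply, hg']; exact hw')⟩⟩
  have hsm : Smooth (g' ≫ V.ι ≫ f) := by rw [← Category.assoc, hg']; infer_instance
  exact (Descend.smooth_nhd_iff_mem_smoothLocus f _).1
    ⟨V, ⟨w, rfl⟩, AlgSpace.descendsEtaleSource_smooth g' _ inferInstance inferInstance hsm⟩

/-- Singularities of the generic fibre. -/
theorem smooth_or_isOrdDoublePt {R : Type u} [CommRing R] [IsDomain R] [HenselianLocalRing R]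
    [IsSepClosed (ResidueField R)] {C : Scheme.{u}} (f : C ⟶ Spec (CommRingCat.of R)) [IsProper f]
    (hf : Curv2.IsNodalFamily f) (y : ↥(pullback f (Neron.genPt R))) :
    (∃ V : (pullback f (Neron.genPt R)).Opens, y ∈ V ∧ Smooth (V.ι ≫ pullback.snd f (Neron.genPt R))) ∨
      @Curv2.IsOrdDoublePt (FractionRing R) _ ((pullback f (Neron.genPt R)).presheaf.stalk y) _
        (@Curv2.stalkAlgebra (FractionRing R) _ (pullback f (Neron.genPt R)) ⟨pullback.snd f (Neron.genPt R)⟩ y) _ := by
  haveI : LocallyOfFinitePresentation f := hf.2.1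
  let fst := pullback.fst f (Neron.genPt R)
  let snd := pullback.snd f (Neron.genPt R)
  have hgen : (f (fst y)).asIdeal = ⊥ := by
    rw [← Scheme.Hom.comp_apply, pullback.condition, Scheme.Hom.comp_apply]
    show (Ideal.comap (algebraMap R (FractionRing R)) (snd y).asIdeal) = ⊥
    rw [(Ideal.eq_bot_or_top (snd y).asIdeal).resolve_right (snd y).2.ne_top, ← RingHom.ker_eq_comap_bot,
      (RingHom.injective_iff_ker_eq_bot _).1 (IsFractionRing.injective R (FractionRing R))]
  obtain ⟨x, hxs, hx⟩ : ∃ x, fst y ⤳ x ∧ f x = closedPoint R := by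
    have hcl : IsClosed (f '' closure {fst y}) := f.isClosedMap _ isClosed_closure
    have hsp : f (fst y) ⤳ closedPoint R := (PrimeSpectrum.le_iff_specializes _ _).1 (by
      rw [← PrimeSpectrum.asIdeal_le_asIdeal, hgen]; exact bot_le)
    obtain ⟨x, hx, hxe⟩ := hsp.mem_closed hcl ⟨fst y, subset_closure rfl, rfl⟩
    exact ⟨x, specializes_iff_mem_closure.2 hx, hxe⟩
  obtain ⟨A, U, _, _, i, a, ψ, gV, gU, hψ, hψi, hgV, hgU, hcomm, ⟨u, hu⟩⟩ :=
    NodalEtale14.exists_local_structure f hf x
  letI : Algebra R A := (Spec.preimage gV).hom.toAlgebra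
  have hgVeq : Spec.map (CommRingCat.ofHom (algebraMap R A)) = gV := Spec.map_preimage gV
  haveI : Algebra.Etale R A := by
    rw [← hgVeq] at hgV
    exact RingHom.etale_algebraMap.1 ((HasRingHomProperty.Spec_iff (P := @Etale)).1 hgV)
  letI : Algebra R U := (i.comp (algebraMap R A)).toAlgebra
  have hcomm' : gU ≫ f = Spec.map (CommRingCat.ofHom (algebraMap R U)) := by
    rw [hcomm, ← hgVeq, ← Spec.map_comp, ← CommRingCat.ofHom_comp]
  obtain ⟨w, hwu, hw⟩ : ∃ w, w ⤳ u ∧ gU w = fst y :=
    Flat.generalizingMap gU (by rw [hu]; exact hxs)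
  have hQ : w.asIdeal.comap (algebraMap R U) = ⊥ := by
    rw [← hgen, ← hw, ← Scheme.Hom.comp_apply, hcomm']; rfl
  have hQx : u.asIdeal.comap (algebraMap R U) = maximalIdeal R := by
    have h : f (gU u) = closedPoint R := by rw [hu]; exact hx
    rw [← Scheme.Hom.comp_apply, hcomm'] at h
    exact congrArg PrimeSpectrum.asIdeal h
  have hle : w.asIdeal ≤ u.asIdeal := (PrimeSpectrum.le_iff_specializes _ _).2 hwu
  by_cases h0 : ∀ k, ψ (Ideal.Quotient.mk _ (MvPolynomial.X k)) ∈ w.asIdeal
  · right
    obtain ⟨θ, hθl, hθf, hθm, hθs⟩ := exists_stalk_hom_etale gU w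
    revert θ
    rw [hw]
    intro θ hθl hθf hθm hθs
    let L := Localization.AtPrime w.asIdeal
    let B := (pullback f (Neron.genPt R)).presheaf.stalk y
    let e0 : C.presheaf.stalk (fst y) ≃+* B := RingEquiv.ofBijective _ (bijective_stalkMap_fst f y)
    letI : (pullback f (Neron.genPt R)).Over (Spec (CommRingCat.of (FractionRing R))) := ⟨snd⟩
    let σ : FractionRing R →+* B := Curv2.stalkMap (FractionRing R) (pullback f (Neron.genPt R)) y
    obtain ⟨ρ, hρ⟩ := Spec.map_surjective (C.fromSpecStalk (fst y) ≫ f)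
    have hσρ : σ.comp (algebraMap R (FractionRing R)) = e0.toRingHom.comp ρ.hom := by
      suffices e : CommRingCat.ofHom (algebraMap R (FractionRing R)) ≫ CommRingCat.ofHom σ = ρ ≫ fst.stalkMap y from
        congrArg CommRingCat.Hom.hom e
      apply Spec.map_injective
      rw [Spec.map_comp, Spec.map_comp, spec_stalkMap, hρ, ← Category.assoc (Spec.map _),
        Scheme.SpecMap_stalkMap_fromSpecStalk, Category.assoc, Category.assoc]
      exact congrArg ((pullback f (Neron.genPt R)).fromSpecStalk y ≫ ·) pullback.condition.symm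
    have hθρ : θ.comp ρ.hom = (algebraMap U L).comp (algebraMap R U) := by
      suffices e : ρ ≫ CommRingCat.ofHom θ =
          CommRingCat.ofHom (algebraMap R U) ≫ CommRingCat.ofHom (algebraMap U L) from
        congrArg CommRingCat.Hom.hom e
      apply Spec.map_injective
      rw [Spec.map_comp, Spec.map_comp, hρ, ← Category.assoc]
      refine (congrArg (· ≫ f) hθs).trans ?_
      exact (Category.assoc _ _ _).trans (congrArg _ hcomm')
    letI : Algebra (FractionRing R) L := (θ.comp (e0.symm.toRingHom.comp σ)).toAlgebra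
    have hK : ∀ r, algebraMap (FractionRing R) L (algebraMap R (FractionRing R) r) =
        algebraMap U L (algebraMap R U r) := fun r => by
      show θ (e0.symm (σ (algebraMap R (FractionRing R) r))) = _
      rw [show σ (algebraMap R (FractionRing R) r) = e0 (ρ.hom r) from RingHom.congr_fun hσρ r, e0.symm_apply_apply]
      exact RingHom.congr_fun hθρ r
    have hnode := isOrdDoublePt_split i rfl a ψ hψ hψi w.asIdeal u.asIdeal hle hQ hQx h0 (K := FractionRing R) hK
    have hres := exists_sub_algebraMap_mem_maximalIdeal i rfl a ψ hψ hψi w.asIdeal u.asIdeal hle hQ hQx h0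
      (K := FractionRing R) hK
    letI : Algebra (FractionRing R) B := σ.toAlgebra
    haveI : IsLocalHom e0.symm.toRingHom := ⟨fun z hz => (MulEquiv.isUnit_map e0.symm.toMulEquiv).1 hz⟩
    haveI := hθl
    haveI : IsLocalHom (θ.comp e0.symm.toRingHom) := RingHom.isLocalHom_comp _ _
    refine (isOrdDoublePt_iff_of_etale (θ.comp e0.symm.toRingHom)
      ((RingHom.Flat.of_bijective e0.symm.bijective).comp hθf) ?_ (fun z => ?_) fun c => rfl).2 hnode
    · rw [← Ideal.map_map]
      conv_lhs => rw [IsLocalRing.map_maximalIdeal_of_surjective e0.symm.toRingHom e0.symm.surjective]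
      exact hθm
    · obtain ⟨c, hc⟩ := hres z
      exact ⟨σ c, hc⟩
  · left
    push Not at h0
    obtain ⟨k, hk⟩ := h0
    let t := ψ (Ideal.Quotient.mk _ (MvPolynomial.X k))
    let sU : Spec (CommRingCat.of (Localization.Away t)) ⟶ Spec (CommRingCat.of U) :=
      Spec.map (CommRingCat.ofHom (algebraMap U (Localization.Away t)))
    haveI : Etale sU := (HasRingHomProperty.Spec_iff (P := @Etale)).2
      (RingHom.etale_algebraMap.2 (Algebra.Etale.of_isLocalizationAway t))
    obtain ⟨w', hw'⟩ : w ∈ Set.range (PrimeSpectrum.comap (algebraMap U (Localization.Away t))) := by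
      rw [PrimeSpectrum.localization_away_comap_range (Localization.Away t) t]
      exact hk
    haveI : Smooth ((sU ≫ gU) ≫ f) := by
      rw [Category.assoc, hcomm', ← Spec.map_comp, ← CommRingCat.ofHom_comp]
      refine (HasRingHomProperty.Spec_iff (P := @Smooth)).2 ?_
      show ((algebraMap U (Localization.Away t)).comp (i.comp (algebraMap R A))).Smooth
      rw [← RingHom.comp_assoc, ← hψi]
      refine RingHom.Smooth.comp (RingHom.smooth_algebraMap.2 inferInstance) ?_
      exact smooth_away a ψ hψ k
    obtain ⟨V, hV, hsm⟩ := (Descend.smooth_nhd_iff_mem_smoothLocus f _).2 (mem_smoothLocus_of_etale (sU ≫ gU) f w')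
    have hw'' : (sU ≫ gU) w' = fst y := by
      rw [Scheme.Hom.comp_apply, ← hw]; exact congrArg gU hw'
    refine ⟨fst ⁻¹ᵁ V, by rw [hw''] at hV; exact hV, ?_⟩
    exact MorphismProperty.of_isPullback
      ((isPullback_morphismRestrict fst V).paste_vert (IsPullback.of_hasPullback f (Neron.genPt R))) hsm

end Groth.Agent.SplitNode14
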